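import Mathlib

/-!
# A Frobenius-type lemma for linear groups

`fr_lemma`: let `y` have prime order `r` with `1 + y + ... + y^(r-1) = 0` on `V` (e.g. `y` has no
non-zero fixed vector and `r` is not the characteristic), and let `T` be a finite subgroup normalized
by `y`, of order invertible in `k`, with `C_T(y) = 1`. If the action is faithful then `T = 1`.
-/

set_option autoImplicit false

namespace Cfsg.Agent.Lib.Helper41.HUPT

open Finset

variable {k V X : Type*} [Field k] [AddCommGroup V] [Module k V] [Group X]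

/-- conjugation by `y` preserves `T`, so do all powers -/
theorem fr_pow_conj_mem (T : Subgroup X) (y : X) (hT : ∀ t ∈ T, y * t * y⁻¹ ∈ T) (i : ℕ) :
    ∀ t ∈ T, y ^ i * t * (y ^ i)⁻¹ ∈ T := by
  induction i with
  | zero => intro t ht; simpa using ht
  | succ n ih =>
    intro t ht
    have h := hT _ (ih t ht)
    have e : y ^ (n + 1) * t * (y ^ (n + 1))⁻¹ = y * (y ^ n * t * (y ^ n)⁻¹) * y⁻¹ := by
      rw [pow_succ']; group
    rw [e]; exact h

/-- `(b y)^i y^(-i) ∈ T` -/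
theorem fr_psi_mem (T : Subgroup X) (y : X) (hT : ∀ t ∈ T, y * t * y⁻¹ ∈ T) (b : X) (hb : b ∈ T)
    (i : ℕ) : (b * y) ^ i * (y ^ i)⁻¹ ∈ T := by
  induction i with
  | zero => simp
  | succ n ih =>
    have h1 := fr_pow_conj_mem T y hT n b hb
    have e : (b * y) ^ (n + 1) * (y ^ (n + 1))⁻¹ =
        ((b * y) ^ n * (y ^ n)⁻¹) * (y ^ n * b * (y ^ n)⁻¹) := by
      rw [pow_succ, pow_succ]; group
    rw [e]; exact T.mul_mem ih h1

/-- every `b y` with `b ∈ T` is `T`-conjugate to `y` when `C_T(y) = 1` -/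
theorem fr_conj (T : Subgroup X) [Finite T] (y : X) (hT : ∀ t ∈ T, y * t * y⁻¹ ∈ T)
    (hC : ∀ t ∈ T, t * y = y * t → t = 1) (b : X) (hb : b ∈ T) :
    ∃ c ∈ T, b * y = c * y * c⁻¹ := by
  let φ : T → T := fun c => ⟨(c : X) * (y * (c : X)⁻¹ * y⁻¹), T.mul_mem c.2 (hT _ (T.inv_mem c.2))⟩
  have hinj : Function.Injective φ := by
    intro c d hcd
    have h1 : (c : X) * (y * (c : X)⁻¹ * y⁻¹) = (d : X) * (y * (d : X)⁻¹ * y⁻¹) :=
      congrArg Subtype.val hcd
    have h2 : ((d : X)⁻¹ * c) * y = y * ((d : X)⁻¹ * c) := by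
      have h3 : (c : X) * y * (c : X)⁻¹ = (d : X) * y * (d : X)⁻¹ := by
        have := congrArg (fun z => z * y) h1
        simpa [mul_assoc] using this
      calc ((d : X)⁻¹ * c) * y = (d : X)⁻¹ * ((c : X) * y * (c : X)⁻¹) * c := by group
        _ = (d : X)⁻¹ * ((d : X) * y * (d : X)⁻¹) * c := by rw [h3]
        _ = y * ((d : X)⁻¹ * c) := by group
    have h4 := hC _ (T.mul_mem (T.inv_mem d.2) c.2) h2
    apply Subtype.ext
    have : (c : X) = d := by
      have h5 : (d : X) * ((d : X)⁻¹ * c) = d * 1 := by rw [h4]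
      simpa using h5
    exact this
  obtain ⟨c, hc⟩ := (Finite.injective_iff_surjective.mp hinj) ⟨b, hb⟩
  refine ⟨c, c.2, ?_⟩
  have h1 : (c : X) * (y * (c : X)⁻¹ * y⁻¹) = b := congrArg Subtype.val hc
  rw [← h1]; group

theorem fr_lemma (ρ : X →* (V ≃ₗ[k] V)) (hinj : Function.Injective ρ) (y : X) (r : ℕ)
    (hr : r.Prime) (hy : y ^ r = 1)
    (hN : ∀ v : V, ∑ i ∈ Finset.range r, ρ (y ^ i) v = 0)
    (T : Subgroup X) [Finite T] (hT : ∀ t ∈ T, y * t * y⁻¹ ∈ T)
    (hC : ∀ t ∈ T, t * y = y * t → t = 1) (hchar : ((Nat.card T : ℕ) : k) ≠ 0) : T = ⊥ := by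
  classical
  have := Fintype.ofFinite T
  -- the endomorphism-valued version of ρ
  let ρ' : X →* Module.End k V :=
    { toFun := fun g => ((ρ g : V ≃ₗ[k] V) : V →ₗ[k] V)
      map_one' := by ext v; simp
      map_mul' := fun a b => by ext v; simp }
  have hρ' : ∀ g v, ρ' g v = ρ g v := fun g v => rfl
  have hNy : ∑ i ∈ Finset.range r, ρ' (y ^ i) = 0 := by
    ext v
    simp only [LinearMap.sum_apply, LinearMap.zero_apply]
    exact hN v
  -- each b y is conjugate to y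
  have hby : ∀ b ∈ T, (b * y) ^ r = 1 ∧ ∑ i ∈ Finset.range r, ρ' ((b * y) ^ i) = 0 := by
    intro b hb
    obtain ⟨c, hc, e⟩ := fr_conj T y hT hC b hb
    have hpow : ∀ i : ℕ, (b * y) ^ i = c * y ^ i * c⁻¹ := by
      intro i
      rw [e, conj_pow]
    refine ⟨by rw [hpow, hy]; group, ?_⟩
    have : ∑ i ∈ Finset.range r, ρ' ((b * y) ^ i) =
        ρ' c * (∑ i ∈ Finset.range r, ρ' (y ^ i)) * ρ' c⁻¹ := by
      rw [Finset.mul_sum, Finset.sum_mul]
      apply Finset.sum_congr rfl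
      intro i _
      rw [hpow, map_mul, map_mul]
    rw [this, hNy, mul_zero, zero_mul]
  let σ : Module.End k V := ∑ t : T, ρ' (t : X)
  -- for 1 ≤ i < r the map b ↦ (b y)^i y^(-i) is a bijection of T
  have hψ : ∀ i : ℕ, 1 ≤ i → i < r → ∑ b : T, ρ' (((b : X) * y) ^ i) = σ * ρ' (y ^ i) := by
    intro i hi1 hir
    let ψ : T → T := fun b => ⟨((b : X) * y) ^ i * (y ^ i)⁻¹, fr_psi_mem T y hT b b.2 i⟩
    have hcop : Nat.Coprime i r := by
      rw [Nat.coprime_comm]
      exact (Nat.Prime.coprime_iff_not_dvd hr).mpr (fun h => by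
        have := Nat.le_of_dvd (by omega) h
        omega)
    obtain ⟨j, -, hj⟩ := Nat.exists_mul_mod_eq_one_of_coprime hcop hr.one_lt
    have hrec : ∀ b : T, ((b : X) * y) = (((b : X) * y) ^ i) ^ j := by
      intro b
      have h1 := (hby b b.2).1
      rw [← pow_mul]
      have h2 : i * j = r * (i * j / r) + 1 := by
        have := Nat.div_add_mod (i * j) r
        omega
      rw [h2, pow_add, pow_mul, h1, one_pow, one_mul, pow_one]
    have hψinj : Function.Injective ψ := by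
      intro b d hbd
      have h1 : ((b : X) * y) ^ i * (y ^ i)⁻¹ = ((d : X) * y) ^ i * (y ^ i)⁻¹ :=
        congrArg Subtype.val hbd
      have h2 : ((b : X) * y) ^ i = ((d : X) * y) ^ i := mul_right_cancel h1
      have h3 : (b : X) * y = (d : X) * y := by rw [hrec b, hrec d, h2]
      exact Subtype.ext (mul_right_cancel h3)
    have hψbij : Function.Bijective ψ := ⟨hψinj, Finite.injective_iff_surjective.mp hψinj⟩
    have h4 : ∀ b : T, ρ' (((b : X) * y) ^ i) = ρ' ((ψ b : T) : X) * ρ' (y ^ i) := by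
      intro b
      rw [← map_mul]
      congr 1
      show ((b : X) * y) ^ i = ((b : X) * y) ^ i * (y ^ i)⁻¹ * y ^ i
      group
    calc ∑ b : T, ρ' (((b : X) * y) ^ i) = ∑ b : T, ρ' ((ψ b : T) : X) * ρ' (y ^ i) :=
          Finset.sum_congr rfl (fun b _ => h4 b)
      _ = (∑ b : T, ρ' ((ψ b : T) : X)) * ρ' (y ^ i) := by rw [Finset.sum_mul]
      _ = σ * ρ' (y ^ i) := by
          congr 1
          exact Fintype.sum_bijective ψ hψbij _ _ (fun b => rfl)
  -- sum over b ∈ T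
  have hr1 : 1 ≤ r := hr.one_lt.le
  have hsplit : ∀ f : ℕ → Module.End k V,
      ∑ i ∈ Finset.range r, f i = f 0 + ∑ i ∈ Finset.Ico 1 r, f i := by
    intro f
    rw [Finset.range_eq_Ico, Finset.sum_eq_sum_Ico_succ_bot hr.pos]
  have htail : ∑ i ∈ Finset.Ico 1 r, ρ' (y ^ i) = -1 := by
    have h := hNy
    rw [hsplit] at h
    have h0 : ρ' (y ^ 0) = 1 := by simp
    rw [h0] at h
    exact eq_neg_of_add_eq_zero_right h
  have hsum : (Nat.card T : Module.End k V) - σ = 0 := by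
    have h1 : ∑ b : T, ∑ i ∈ Finset.range r, ρ' (((b : X) * y) ^ i) = 0 :=
      Finset.sum_eq_zero (fun b _ => (hby b b.2).2)
    rw [Finset.sum_comm, hsplit] at h1
    have h2 : ∑ b : T, ρ' (((b : X) * y) ^ 0) = (Nat.card T : Module.End k V) := by
      simp [Nat.card_eq_fintype_card]
    have h3 : ∑ i ∈ Finset.Ico 1 r, ∑ b : T, ρ' (((b : X) * y) ^ i) = -σ := by
      have : ∑ i ∈ Finset.Ico 1 r, ∑ b : T, ρ' (((b : X) * y) ^ i) =
          ∑ i ∈ Finset.Ico 1 r, σ * ρ' (y ^ i) := by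
        apply Finset.sum_congr rfl
        intro i hi
        rw [Finset.mem_Ico] at hi
        exact hψ i hi.1 hi.2
      rw [this, ← Finset.mul_sum, htail, mul_neg, mul_one]
    rw [h2, h3] at h1
    rw [sub_eq_add_neg]
    exact h1
  have hσ : σ = (Nat.card T : Module.End k V) := (sub_eq_zero.mp hsum).symm
  -- every element of T acts trivially
  rw [eq_bot_iff]
  intro t ht
  rw [Subgroup.mem_bot]
  apply hinj
  rw [map_one]
  have h1 : ρ' t * σ = σ := by
    show ρ' t * ∑ b : T, ρ' (b : X) = ∑ b : T, ρ' (b : X)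
    rw [Finset.mul_sum]
    have : ∀ b : T, ρ' t * ρ' (b : X) = ρ' (((⟨t, ht⟩ : T) * b : T) : X) := by
      intro b
      rw [← map_mul]
      rfl
    rw [Finset.sum_congr rfl (fun b _ => this b)]
    exact Fintype.sum_bijective (fun b : T => (⟨t, ht⟩ : T) * b)
      (Group.mulLeft_bijective _) _ _ (fun b => rfl)
  rw [hσ] at h1
  apply LinearEquiv.ext
  intro v
  have h2 := congrArg (fun f : Module.End k V => f v) h1
  simp only [Module.End.mul_apply] at h2
  have h3 : ((Nat.card T : ℕ) : Module.End k V) v = ((Nat.card T : ℕ) : k) • v := by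
    rw [Module.End.natCast_apply, Nat.cast_smul_eq_nsmul]
  rw [h3, map_smul] at h2
  have h4 := smul_right_injective V hchar h2
  simpa [hρ'] using h4

/-- if `y` has no non-zero fixed vector then `1 + y + ... + y^(r-1) = 0` -/
theorem fr_norm_zero (ρ : X →* (V ≃ₗ[k] V)) (y : X) (r : ℕ) (hy : y ^ r = 1)
    (hfix : ∀ v : V, ρ y v = v → v = 0) (v : V) :
    ∑ i ∈ Finset.range r, ρ (y ^ i) v = 0 := by
  apply hfix
  rw [map_sum]
  have h1 : ∀ i : ℕ, ρ y (ρ (y ^ i) v) = ρ (y ^ (i + 1)) v := by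
    intro i
    rw [pow_succ', map_mul]
    rfl
  rw [Finset.sum_congr rfl (fun i _ => h1 i)]
  have h2 := Finset.sum_range_succ (fun i => ρ (y ^ i) v) r
  have h3 := Finset.sum_range_succ' (fun i => ρ (y ^ i) v) r
  rw [h2] at h3
  simp only [hy, pow_zero, map_one] at h3
  exact (add_right_cancel h3).symm

/-- `y` centralizes every `y`-invariant abelian subgroup of order prime to `r` and invertible
in `k` -/
theorem fr_abelian (ρ : X →* (V ≃ₗ[k] V)) (hinj : Function.Injective ρ) (y : X) (r : ℕ)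
    (hr : r.Prime) (hy : y ^ r = 1)
    (hN : ∀ v : V, ∑ i ∈ Finset.range r, ρ (y ^ i) v = 0)
    (B : Subgroup X) [Finite B] (hBc : ∀ a ∈ B, ∀ b ∈ B, a * b = b * a)
    (hB : ∀ b ∈ B, y * b * y⁻¹ ∈ B) (hcop : (Nat.card B).Coprime r)
    (hchar : ((Nat.card B : ℕ) : k) ≠ 0) : ∀ b ∈ B, y * b = b * y := by
  classical
  have hBinv : ∀ b ∈ B, y * b⁻¹ * y⁻¹ ∈ B := fun b hb => hB _ (B.inv_mem hb)
  let T : Subgroup X :=
    { carrier := {t | ∃ b ∈ B, t = b * (y * b⁻¹ * y⁻¹)}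
      one_mem' := ⟨1, B.one_mem, by simp⟩
      mul_mem' := by
        rintro _ _ ⟨a, ha, rfl⟩ ⟨b, hb, rfl⟩
        refine ⟨a * b, B.mul_mem ha hb, ?_⟩
        have e1 := hBc _ (hBinv a ha) _ hb
        have e2 := hBc _ (hBinv a ha) _ (hBinv b hb)
        have e3 : y * (a * b)⁻¹ * y⁻¹ = (y * b⁻¹ * y⁻¹) * (y * a⁻¹ * y⁻¹) := by group
        rw [e3, ← e2]
        calc a * (y * a⁻¹ * y⁻¹) * (b * (y * b⁻¹ * y⁻¹))
            = a * ((y * a⁻¹ * y⁻¹) * b) * (y * b⁻¹ * y⁻¹) := by simp only [mul_assoc]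
          _ = a * (b * (y * a⁻¹ * y⁻¹)) * (y * b⁻¹ * y⁻¹) := by rw [e1]
          _ = a * b * ((y * a⁻¹ * y⁻¹) * (y * b⁻¹ * y⁻¹)) := by simp only [mul_assoc]
      inv_mem' := by
        rintro _ ⟨a, ha, rfl⟩
        refine ⟨a⁻¹, B.inv_mem ha, ?_⟩
        have e1 := hBc _ (B.inv_mem ha) _ (hB a ha)
        calc (a * (y * a⁻¹ * y⁻¹))⁻¹ = (y * a * y⁻¹) * a⁻¹ := by group
          _ = a⁻¹ * (y * a * y⁻¹) := e1.symm
          _ = a⁻¹ * (y * a⁻¹⁻¹ * y⁻¹) := by rw [inv_inv] }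
  have hTB : T ≤ B := by
    rintro _ ⟨b, hb, rfl⟩
    exact B.mul_mem hb (hBinv b hb)
  have hTfin : Finite T := Finite.of_injective (Subgroup.inclusion hTB) (Subgroup.inclusion_injective hTB)
  have hTy : ∀ t ∈ T, y * t * y⁻¹ ∈ T := by
    rintro _ ⟨b, hb, rfl⟩
    exact ⟨y * b * y⁻¹, hB b hb, by group⟩
  have hTC : ∀ t ∈ T, t * y = y * t → t = 1 := by
    rintro _ ⟨b, hb, rfl⟩ hcomm
    have htB : b * (y * b⁻¹ * y⁻¹) ∈ B := hTB ⟨b, hb, rfl⟩
    generalize ht : b * (y * b⁻¹ * y⁻¹) = t at hcomm htB ⊢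
    have hconj : ∀ i : ℕ, y ^ i * t * (y ^ i)⁻¹ = t := by
      intro i
      have : y ^ i * t = t * y ^ i := by
        induction i with
        | zero => simp
        | succ n ih => rw [pow_succ, mul_assoc, ← hcomm, ← mul_assoc, ih, mul_assoc]
      rw [this]; group
    have hpow : ∀ i : ℕ, t ^ i = b * (y ^ i * b⁻¹ * (y ^ i)⁻¹) := by
      intro i
      induction i with
      | zero => simp
      | succ n ih =>
        rw [pow_succ, ih]
        conv_lhs => rw [← hconj n, ← ht]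
        rw [pow_succ]
        group
    have h1 : t ^ r = 1 := by rw [hpow, hy]; group
    have h2 : orderOf t ∣ r := orderOf_dvd_of_pow_eq_one h1
    have h3 : orderOf t ∣ Nat.card B := by
      have := orderOf_dvd_natCard (⟨t, htB⟩ : B)
      rwa [Subgroup.orderOf_mk] at this
    have h4 : orderOf t = 1 := Nat.eq_one_of_dvd_coprimes hcop h3 h2
    exact orderOf_eq_one_iff.mp h4
  have hTchar : ((Nat.card T : ℕ) : k) ≠ 0 := by
    intro h0
    obtain ⟨m, hm⟩ := Subgroup.card_dvd_of_le hTB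
    apply hchar
    rw [hm, Nat.cast_mul, h0, zero_mul]
  have hTbot := fr_lemma ρ hinj y r hr hy hN T hTy hTC hTchar
  intro b hb
  have h1 : b * (y * b⁻¹ * y⁻¹) ∈ T := ⟨b, hb, rfl⟩
  rw [hTbot, Subgroup.mem_bot] at h1
  calc y * b = (b * (y * b⁻¹ * y⁻¹)) * (y * b) := by rw [h1, one_mul]
    _ = b * y := by group

end Cfsg.Agent.Lib.Helper41.HUPT
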